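import Mathlib

/-!
The arithmetical searches for the degrees in the first Janko group.
-/

set_option autoImplicit false
set_option linter.unusedSimpArgs false
set_option maxRecDepth 20000
set_option Elab.async false

namespace CfsgLib.JankoOrder

/-- Signed degrees of characters with value `c` (times the sign) at `t`. -/
def Opt (c x : ℤ) : Prop :=
  x % 8 = c % 8 ∧ (0 < x ∧ c + 8 * max 1 (-c) ≤ x ∨ x < 0 ∧ x ≤ c - 8 * max 1 c)

instance (c x : ℤ) : Decidable (Opt c x) := by unfold Opt; infer_instance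

theorem opt_of {c v f k : ℤ} (hv : v = 1 ∨ v = -1) (hf : 0 < f) (h : f = c * v + 8 * k)
    (hk : 1 ≤ k) (hk' : -(c * v) ≤ k) : Opt c (v * f) := by
  rcases hv with rfl | rfl
  · refine ⟨by omega, Or.inl ⟨by omega, by omega⟩⟩
  · refine ⟨by omega, Or.inr ⟨by omega, by omega⟩⟩

/-- All options up to about `8 * n`. -/
def optList (c : ℤ) (n : ℕ) : List ℤ :=
  (List.range n).map (fun (i : ℕ) => c + 8 * max 1 (-c) + 8 * (i : ℤ)) ++
    (List.range n).map (fun (i : ℕ) => c - 8 * max 1 c - 8 * (i : ℤ))

theorem mem_optList {c x : ℤ} {n : ℕ} (h : Opt c x) (hn : |x| + |c| + 8 < 8 * (n : ℤ)) :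
    x ∈ optList c n := by
  obtain ⟨hmod, hc⟩ := h
  simp only [optList, List.mem_append, List.mem_map, List.mem_range]
  have h1 := le_abs_self c
  have h2 := neg_le_abs c
  generalize |c| = b at h1 h2 hn
  obtain ⟨j, rfl⟩ : ∃ j, x = c + 8 * j := ⟨x / 8 - c / 8, by omega⟩
  rcases hc with ⟨hx, hle⟩ | ⟨hx, hle⟩
  · left
    have h3 := le_max_left (1 : ℤ) (-c)
    generalize max 1 (-c) = m at hle h3 ⊢
    rw [abs_of_pos hx] at hn
    obtain ⟨i, hi⟩ := Int.eq_ofNat_of_zero_le (show 0 ≤ j - m by linarith)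
    exact ⟨i, by omega, by omega⟩
  · right
    have h3 := le_max_left (1 : ℤ) c
    generalize max 1 c = m at hle h3 ⊢
    rw [abs_of_neg hx] at hn
    obtain ⟨i, hi⟩ := Int.eq_ofNat_of_zero_le (show 0 ≤ -j - m by linarith)
    exact ⟨i, by omega, by omega⟩

/-- The filters on a candidate order. -/
def good (q x y z : ℤ) : Bool :=
  (q.natAbs % 120).beq 0 && (q.natAbs % x.natAbs).beq 0 && (q.natAbs % y.natAbs).beq 0 &&
    (q.natAbs % z.natAbs).beq 0 && !(q.natAbs % 16).beq 0 && decide (0 < q)

theorem good_of {N : ℕ} {x y z : ℤ} (hN : 0 < N) (h120 : 120 ∣ N) (h16 : ¬ 16 ∣ N)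
    (hx : x ∣ (N : ℤ)) (hy : y ∣ (N : ℤ)) (hz : z ∣ (N : ℤ)) : good N x y z = true := by
  have e : ∀ w : ℤ, w ∣ (N : ℤ) → N % w.natAbs = 0 := fun w hw =>
    Nat.mod_eq_zero_of_dvd (Int.dvd_natCast.1 hw)
  simp only [good, Int.natAbs_natCast, Bool.and_eq_true, Bool.not_eq_true', decide_eq_true_eq]
  refine ⟨⟨⟨⟨⟨?_, ?_⟩, ?_⟩, ?_⟩, ?_⟩, by exact_mod_cast hN⟩
  · simp [Nat.mod_eq_zero_of_dvd h120]
  · simp [e x hx]
  · simp [e y hy]
  · simp [e z hz]
  · by_contra h
    exact h16 (Nat.dvd_of_mod_eq_zero (by simpa using h))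

/-- One candidate of a sunflower side. -/
def sunCell (c W : ℤ) (L : List ℤ) (x0 x : ℤ) : Bool :=
  let y := -1 - x0 - x
  let num := x0 * x * y + x * y + c * c * x0 * y + c * c * x0 * x
  let den := W * (x0 * x * y)
  !(den.natAbs % num.natAbs).beq 0 || !good (den / num) x0 x y || L.contains (den / num)

/-- A part of the options for the first coordinate of one sunflower side. -/
def checkSun (c W : ℤ) (L : List ℤ) (k : ℕ) : Bool :=
  (((optList 1 128).drop (64 * k)).take 64).all fun x0 =>
    (optList c 128).all fun x => sunCell c W L x0 x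

/-- The orders allowed by the first sunflower side. -/
def sunOne : List ℤ := [33480, 119880, 152520, 175560, 189000, 511560, 603720, 861000]

/-- The orders allowed by the second sunflower side. -/
def sunTwo : List ℤ := [68040, 93000, 121800, 175560, 189000, 693000]

theorem checkSun_one0 : checkSun 3 144000 sunOne 0 = true := by decide +kernel
theorem checkSun_one1 : checkSun 3 144000 sunOne 1 = true := by decide +kernel
theorem checkSun_one2 : checkSun 3 144000 sunOne 2 = true := by decide +kernel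
theorem checkSun_one3 : checkSun 3 144000 sunOne 3 = true := by decide +kernel
theorem checkSun_two0 : checkSun (-5) 86400 sunTwo 0 = true := by decide +kernel
theorem checkSun_two1 : checkSun (-5) 86400 sunTwo 1 = true := by decide +kernel
theorem checkSun_two2 : checkSun (-5) 86400 sunTwo 2 = true := by decide +kernel
theorem checkSun_two3 : checkSun (-5) 86400 sunTwo 3 = true := by decide +kernel

theorem mem_chunk {α : Type*} {a : α} {L : List α} {m : ℕ} (hL : L.length ≤ 4 * m) (h : a ∈ L) :
    ∃ k < 4, a ∈ (L.drop (m * k)).take m := by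
  obtain ⟨i, hi, rfl⟩ := List.getElem_of_mem h
  rcases Nat.eq_zero_or_pos m with rfl | hm
  · omega
  refine ⟨i / m, Nat.div_lt_iff_lt_mul hm |>.2 (by omega), ?_⟩
  rw [List.mem_iff_getElem]
  have h1 := Nat.div_add_mod i m
  have h2 := Nat.mod_lt i hm
  refine ⟨i % m, by simp only [List.length_take, List.length_drop]; omega, ?_⟩
  simp only [List.getElem_take, List.getElem_drop, h1]

theorem length_optList (c : ℤ) (n : ℕ) : (optList c n).length = 2 * n := by
  simp [optList]; omega

theorem mem_of_checkSun {c W : ℤ} {L : List ℤ} (h : ∀ k < 4, checkSun c W L k = true)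
    {N : ℕ} {x0 x y : ℤ}
    (hc : |c| ≤ 5) (hx0 : Opt 1 x0) (hx : Opt c x) (hx0b : |x0| ≤ 1010)
    (hxb : |x| ≤ 1010) (hsum : 1 + x0 + x + y = 0) (hN : 0 < N) (h120 : 120 ∣ N) (h16 : ¬ 16 ∣ N)
    (hd0 : x0 ∣ (N : ℤ)) (hd1 : x ∣ (N : ℤ)) (hd2 : y ∣ (N : ℤ))
    (heq : (N : ℤ) * (x0 * x * y + x * y + c * c * x0 * y + c * c * x0 * x) =
      W * (x0 * x * y)) (hW : W * (x0 * x * y) ≠ 0) : (N : ℤ) ∈ L := by
  obtain ⟨k, hk, hmem⟩ := mem_chunk (m := 64) (by rw [length_optList])
    (mem_optList (n := 128) hx0 (by rw [abs_one]; norm_num; linarith))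
  have h' := h k hk
  simp only [checkSun, List.all_eq_true] at h'
  have := h' x0 hmem x (mem_optList hx (by norm_num; linarith))
  have hy' : -1 - x0 - x = y := by linarith
  simp only [sunCell, hy'] at this
  set num := x0 * x * y + x * y + c * c * x0 * y + c * c * x0 * x with hnum
  have hn0 : num ≠ 0 := fun h0 => hW (by rw [← heq, h0, mul_zero])
  have hmod : (W * (x0 * x * y)).natAbs % num.natAbs = 0 := by
    rw [← heq, Int.natAbs_mul, Nat.mul_mod_left]
  have hdiv : W * (x0 * x * y) / num = (N : ℤ) := by rw [← heq, Int.mul_ediv_cancel _ hn0]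
  simpa [hmod, hdiv, good_of hN h120 h16 hd0 hd1 hd2, List.contains_iff_mem] using this

/-- The solutions of one triangle side. -/
def triList : List (ℤ × ℤ × ℤ) :=
  [
    (22680, 14, -18), (31320, 54, -58), (37800, 14, -42), (40920, -66, 62), (59400, 54, -66),
    (63000, 30, 14), (65880, 30, 30), (83160, 54, -154), (83160, 54, 22), (105000, 14, -10),
    (105000, 30, -10), (106920, -66, 54), (106920, 110, 54), (108360, 630, 14), (119880, 54,
    -18), (128520, 54, -34), (135000, 54, -10), (135720, 174, -58), (152520, -186, 62),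
    (157080, -66, 14), (161880, -426, 710), (170280, -66, 22), (189000, -42, 14), (191400,
    174, -10), (306600, -210, -10), (326040, -66, 494), (336600, -66, -34), (360360, -66,
    -26), (360360, -66, 182), (495000, -90, -10), (495000, -66, 110), (495000, -50, -50),
    (585000, -50, -26), (585000, 30, -26), (693000, -90, 110), (825000, -66, -10), (861000,
    -42, -82), (1986600, -66, 86), (4425000, -50, -10), (4845000, 38, -34), (71253000, -58,
    78), (73171800, -106, 118)]

/-- One candidate of a triangle side. -/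
def triCell (x y : ℤ) : Bool :=
  let p := -1 - x - y
  let num := x * y * p + 36 * y * p + 4 * x * p + 9 * x * y
  let den := 144000 * (x * y * p)
  !(den.natAbs % num.natAbs).beq 0 || !good (den / num) x y p ||
    triList.contains (den / num, x, y)

/-- A part of the options for the first coordinate of one triangle side. -/
def checkTri (k : ℕ) : Bool :=
  (((optList 6 180).drop (90 * k)).take 90).all fun x =>
    (optList (-2) 180).all fun y => triCell x y

theorem checkTri0 : checkTri 0 = true := by decide +kernel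
theorem checkTri1 : checkTri 1 = true := by decide +kernel
theorem checkTri2 : checkTri 2 = true := by decide +kernel
theorem checkTri3 : checkTri 3 = true := by decide +kernel

theorem checkTri_eq : ∀ k < 4, checkTri k = true := by
  intro k hk
  interval_cases k
  exacts [checkTri0, checkTri1, checkTri2, checkTri3]

theorem checkSun_one : ∀ k < 4, checkSun 3 144000 sunOne k = true := by
  intro k hk
  interval_cases k
  exacts [checkSun_one0, checkSun_one1, checkSun_one2, checkSun_one3]

theorem checkSun_two : ∀ k < 4, checkSun (-5) 86400 sunTwo k = true := by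
  intro k hk
  interval_cases k
  exacts [checkSun_two0, checkSun_two1, checkSun_two2, checkSun_two3]

theorem mem_triList {N : ℕ} {x y p : ℤ} (hx : Opt 6 x) (hy : Opt (-2) y)
    (hxb : |x| ≤ 1420) (hyb : |y| ≤ 1420) (hsum : 1 + x + y + p = 0) (hN : 0 < N)
    (h120 : 120 ∣ N) (h16 : ¬ 16 ∣ N)
    (hd0 : x ∣ (N : ℤ)) (hd1 : y ∣ (N : ℤ)) (hd2 : p ∣ (N : ℤ))
    (heq : (N : ℤ) * (x * y * p + 36 * y * p + 4 * x * p + 9 * x * y) = 144000 * (x * y * p))
    (hW : (144000 : ℤ) * (x * y * p) ≠ 0) : ((N : ℤ), x, y) ∈ triList := by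
  obtain ⟨k, hk, hmem⟩ := mem_chunk (m := 90) (by rw [length_optList])
    (mem_optList (n := 180) hx (by norm_num; linarith))
  have h' := checkTri_eq k hk
  simp only [checkTri, List.all_eq_true] at h'
  have := h' x hmem y (mem_optList hy (by norm_num; linarith))
  have hy' : -1 - x - y = p := by linarith
  simp only [triCell, hy'] at this
  set num := x * y * p + 36 * y * p + 4 * x * p + 9 * x * y with hnum
  have hn0 : num ≠ 0 := fun h0 => hW (by rw [← heq, h0, mul_zero])
  have hmod : (144000 * (x * y * p)).natAbs % num.natAbs = 0 := by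
    rw [← heq, Int.natAbs_mul, Nat.mul_mod_left]
  have hdiv : 144000 * (x * y * p) / num = (N : ℤ) := by rw [← heq, Int.mul_ediv_cancel _ hn0]
  simpa [hmod, hdiv, good_of hN h120 h16 hd0 hd1 hd2, List.contains_iff_mem] using this

/-- No two solutions combine to the third triangle side. -/
theorem tri_none : ∀ a ∈ triList, ∀ b ∈ triList, a.1 = b.1 → a.2.1 = b.2.1 →
    a.1 * (a.2.2 * b.2.2 * (-1 - a.2.2 - b.2.2) + 4 * b.2.2 * (-1 - a.2.2 - b.2.2) +
      4 * a.2.2 * (-1 - a.2.2 - b.2.2) + 25 * a.2.2 * b.2.2) ≠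
      86400 * (a.2.2 * b.2.2 * (-1 - a.2.2 - b.2.2)) := by
  decide +kernel

theorem inv_ge {c x : ℚ} {m : ℚ} (hc : 0 ≤ c) (hm : 0 < m) (hx : 0 < x ∨ x ≤ -m) :
    -(c / m) ≤ c / x := by
  rcases hx with hx | hx
  · have : 0 ≤ c / x := div_nonneg hc hx.le
    have : 0 ≤ c / m := div_nonneg hc hm.le
    linarith
  · rw [show c / x = -(c / -x) by rw [div_neg, neg_neg], neg_le_neg_iff]
    exact div_le_div_of_nonneg_left hc hm (by linarith)

theorem lt_of_div_lt {c x δ : ℚ} (hδ : 0 < δ) (hx : x < 0) (h : c / x < -δ) :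
    -x < c / δ := by
  rw [div_lt_iff_of_neg hx] at h
  rw [lt_div_iff₀ hδ]
  linarith

end CfsgLib.JankoOrder
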