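import Cfsg.Agent.Lib.JankoOrder.Isometry
import Cfsg.Agent.Lib.JankoOrder.Search

/-!
The possible shapes of the isometry and the resulting group orders.
-/

set_option autoImplicit false
set_option linter.unusedSectionVars false
set_option linter.unusedSimpArgs false

namespace CfsgLib.JankoOrder

universe u

namespace Numeric

variable {N : ℕ} {ι : Type u} [Fintype ι] (d : Numeric N ι)

include d in
theorem N_pos : 0 < N := by
  have h1 := d.f_sq d.one
  rw [d.f_one] at h1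
  omega

theorem v0_one : d.v 0 d.one = 0 := by simpa using d.v_one 0

theorem vi_one {i : Fin 4} (hi : i ≠ 0) : d.v i d.one = 1 := by
  rw [d.v_one]; fin_cases i <;> simp_all

theorem sum_erase [DecidableEq ι] (i j : Fin 4) :
    ∑ χ ∈ Finset.univ.erase d.one, d.v i χ * d.v j χ =
      gram i j - d.v i d.one * d.v j d.one := by
  rw [← d.gram_eq i j, ← Finset.add_sum_erase _ _ (Finset.mem_univ d.one)]
  ring

theorem v_cases (i : Fin 4) {χ : ι} (hχ : χ ≠ d.one) :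
    d.v i χ = 0 ∨ d.v i χ = 1 ∨ d.v i χ = -1 := by
  classical
  have h := d.sum_erase i i
  have hle : d.v i χ * d.v i χ ≤ ∑ x ∈ Finset.univ.erase d.one, d.v i x * d.v i x :=
    Finset.single_le_sum (f := fun x => d.v i x * d.v i x) (fun x _ => mul_self_nonneg _)
      (Finset.mem_erase.2 ⟨hχ, Finset.mem_univ _⟩)
  rw [h] at hle
  have hb : gram i i - d.v i d.one * d.v i d.one ≤ 3 := by
    rw [d.v_one]; fin_cases i <;> simp [gram]
  have h1 : d.v i χ * d.v i χ ≤ 3 := hle.trans hb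
  have : -1 ≤ d.v i χ ∧ d.v i χ ≤ 1 := ⟨by nlinarith, by nlinarith⟩
  omega

theorem prod_nonneg {i j : Fin 4} (hi : i ≠ 0) (hj : j ≠ 0) (hij : i ≠ j) {χ : ι}
    (hχ : χ ≠ d.one) : 0 ≤ d.v i χ * d.v j χ := by
  classical
  by_contra h
  have hdiff : ∑ x, (d.v i x - d.v j x) ^ 2 = 4 := by
    have e : ∀ x, (d.v i x - d.v j x) ^ 2 =
        d.v i x * d.v i x - 2 * (d.v i x * d.v j x) + d.v j x * d.v j x := fun x => by ring
    simp only [e, Finset.sum_add_distrib, Finset.sum_sub_distrib, ← Finset.mul_sum, d.gram_eq]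
    fin_cases i <;> fin_cases j <;> simp_all [gram]
  have h2 : (d.v i χ - d.v j χ) ^ 2 = 4 := by
    rcases d.v_cases i hχ with a | a | a <;> rcases d.v_cases j hχ with b | b | b <;>
      simp [a, b] at h ⊢
  have hz : ∀ x, x ≠ χ → d.v i x = d.v j x := by
    intro x hx
    rw [← Finset.add_sum_erase _ _ (Finset.mem_univ χ), h2] at hdiff
    have h0 : ∑ x ∈ Finset.univ.erase χ, (d.v i x - d.v j x) ^ 2 = 0 := by linarith
    have := (Finset.sum_eq_zero_iff_of_nonneg (fun y _ => sq_nonneg _)).1 h0 x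
      (Finset.mem_erase.2 ⟨hx, Finset.mem_univ _⟩)
    exact sub_eq_zero.1 (pow_eq_zero_iff (n := 2) (by norm_num) |>.1 this)
  have hsum : ∑ x, (d.v i x - d.v j x) * (d.f x : ℤ) = 0 := by
    simp only [sub_mul, Finset.sum_sub_distrib, d.deg, sub_zero]
  rw [Finset.sum_eq_single χ (fun x _ hx => by rw [hz x hx, sub_self, zero_mul]) (by simp)] at hsum
  have hf : (0 : ℤ) < d.f χ := by exact_mod_cast d.f_pos χ
  rcases mul_eq_zero.1 hsum with h3 | h3
  · rw [h3] at h2; norm_num at h2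
  · linarith

theorem prod_cases {i j : Fin 4} (hi : i ≠ 0) (hj : j ≠ 0) (hij : i ≠ j) {χ : ι}
    (hχ : χ ≠ d.one) : d.v i χ * d.v j χ = 0 ∨ d.v i χ * d.v j χ = 1 := by
  have := d.prod_nonneg hi hj hij hχ
  rcases d.v_cases i hχ with a | a | a <;> rcases d.v_cases j hχ with b | b | b <;>
    simp [a, b] at this ⊢

theorem exists_common {i j : Fin 4} (hi : i ≠ 0) (hj : j ≠ 0) (hij : i ≠ j) :
    ∃ χ, χ ≠ d.one ∧ d.v i χ * d.v j χ = 1 ∧
      ∀ y, y ≠ d.one → y ≠ χ → d.v i y * d.v j y = 0 := by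
  classical
  have h := d.sum_erase i j
  have h1 : gram i j - d.v i d.one * d.v j d.one = 1 := by
    rw [d.vi_one hi, d.vi_one hj]; fin_cases i <;> fin_cases j <;> simp_all [gram]
  rw [h1] at h
  obtain ⟨χ, hχ, hχ0⟩ := Finset.exists_ne_zero_of_sum_ne_zero
    (show ∑ χ ∈ Finset.univ.erase d.one, d.v i χ * d.v j χ ≠ 0 by rw [h]; norm_num)
  have hne := (Finset.mem_erase.1 hχ).1
  have hv := (d.prod_cases hi hj hij hne).resolve_left hχ0
  refine ⟨χ, hne, hv, fun y hy hyχ => ?_⟩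
  rw [← Finset.add_sum_erase _ _ hχ, hv] at h
  have h0 : ∑ x ∈ (Finset.univ.erase d.one).erase χ, d.v i x * d.v j x = 0 := by linarith
  exact (Finset.sum_eq_zero_iff_of_nonneg fun x hx =>
    d.prod_nonneg hi hj hij (Finset.mem_erase.1 (Finset.mem_erase.1 hx).2).1).1 h0 y
    (Finset.mem_erase.2 ⟨hyχ, Finset.mem_erase.2 ⟨hy, Finset.mem_univ _⟩⟩)

theorem r_eq_zero : ∀ b ∈ ([0, 1, -1] : List ℤ), ∀ c ∈ ([0, 1, -1] : List ℤ),
    ∀ e ∈ ([0, 1, -1] : List ℤ), 0 ≤ b * c → 0 ≤ b * e → 0 ≤ c * e →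
      (4 + (3 * b + 3 * c - 5 * e)) ^ 2 = (-4 + (3 * b + 3 * c - 5 * e)) ^ 2 →
      b = 0 ∧ c = 0 ∧ e = 0 := by
  decide

/-- The support of the first function avoids the other three. -/
theorem disjoint_zero {i : Fin 4} (hi : i ≠ 0) {χ : ι} (hχ : d.v 0 χ ≠ 0) : d.v i χ = 0 := by
  classical
  set S := Finset.univ.filter (fun x => d.v 0 x ≠ 0) with hS
  have hone : ∀ x ∈ S, x ≠ d.one := fun x hx h =>
    (Finset.mem_filter.1 hx).2 (h ▸ d.v0_one)
  have hsq : ∀ x ∈ S, d.v 0 x * d.v 0 x = 1 := fun x hx => by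
    rcases d.v_cases 0 (hone x hx) with a | a | a
    · exact absurd a (Finset.mem_filter.1 hx).2
    all_goals simp [a]
  have hout : ∀ x, x ∉ S → d.v 0 x = 0 := fun x hx => by
    by_contra h; exact hx (Finset.mem_filter.2 ⟨Finset.mem_univ _, h⟩)
  have hcard : S.card = 2 := by
    have h2 := d.gram_eq 0 0
    rw [← Finset.sum_subset (Finset.subset_univ S) (fun x _ hx => by rw [hout x hx, zero_mul]),
      Finset.sum_congr rfl hsq, Finset.sum_const, nsmul_eq_mul, mul_one] at h2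
    have : (gram 0 0 : ℤ) = 2 := rfl
    rw [this] at h2
    exact_mod_cast h2
  obtain ⟨p, q, hpq, hSeq⟩ := Finset.card_eq_two.1 hcard
  have hp : p ∈ S := by simp [hSeq]
  have hq : q ∈ S := by simp [hSeq]
  have hsum2 : ∀ F : ι → ℤ, ∑ x, d.v 0 x * F x = d.v 0 p * F p + d.v 0 q * F q := fun F => by
    rw [← Finset.sum_subset (Finset.subset_univ S) (fun x _ hx => by rw [hout x hx, zero_mul]),
      hSeq, Finset.sum_pair hpq]
  have hfp : (0 : ℤ) < d.f p := by exact_mod_cast d.f_pos p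
  have hfq : (0 : ℤ) < d.f q := by exact_mod_cast d.f_pos q
  have hdeg := d.deg 0
  rw [hsum2] at hdeg
  have hvp : d.v 0 p = 1 ∨ d.v 0 p = -1 := by
    rcases d.v_cases 0 (hone p hp) with a | a | a <;> simp_all
  have hvq : d.v 0 q = 1 ∨ d.v 0 q = -1 := by
    rcases d.v_cases 0 (hone q hq) with a | a | a <;> simp_all
  have hneg : d.v 0 q = -d.v 0 p := by
    rcases hvp with a | a <;> rcases hvq with b | b <;> rw [a, b] at hdeg ⊢ <;>
      first | rfl | (exfalso; linarith)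
  have hff : (d.f p : ℚ) = d.f q := by
    rw [hneg] at hdeg
    have : (d.f p : ℤ) = d.f q := by
      rcases hvp with a | a <;> rw [a] at hdeg <;> linarith
    exact_mod_cast this
  have hb : ∀ j : Fin 4, j ≠ 0 → d.v j p = d.v j q := by
    intro j hj
    have h := d.gram_eq 0 j
    rw [hsum2, hneg] at h
    have hg : gram 0 j = 0 := by fin_cases j <;> simp_all [gram]
    rw [hg] at h
    rcases hvp with a | a <;> rw [a] at h <;> linarith
  have heq := d.eqn 0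
  have hsumT : ∑ χ, (d.v 0 χ : ℚ) * (d.T χ : ℚ) ^ 2 / (d.f χ : ℚ) =
      (d.v 0 p : ℚ) * (d.T p : ℚ) ^ 2 / (d.f p : ℚ) +
        (d.v 0 q : ℚ) * (d.T q : ℚ) ^ 2 / (d.f q : ℚ) := by
    rw [← Finset.sum_subset (Finset.subset_univ S) (fun x _ hx => by rw [hout x hx]; simp),
      hSeq, Finset.sum_pair hpq]
  have hN : (N : ℚ) ≠ 0 := by
    exact_mod_cast d.N_pos.ne'
  rw [hsumT, hneg, ← hff] at heq
  have hfq' : (d.f p : ℚ) ≠ 0 := by exact_mod_cast (d.f_pos p).ne'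
  have hTT : d.T p ^ 2 = d.T q ^ 2 := by
    have : (d.T p : ℚ) ^ 2 = (d.T q : ℚ) ^ 2 := by
      rcases hvp with a | a <;> simp [a, hN] at heq <;> field_simp at heq <;> linarith
    exact_mod_cast this
  rw [d.T_eq p, d.T_eq q, hneg, ← hb 1 (by decide), ← hb 2 (by decide), ← hb 3 (by decide)] at hTT
  have hmem : ∀ j : Fin 4, d.v j p ∈ ([0, 1, -1] : List ℤ) := fun j => by
    rcases d.v_cases j (hone p hp) with a | a | a <;> simp [a]
  have hall := r_eq_zero _ (hmem 1) _ (hmem 2) _ (hmem 3)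
    (d.prod_nonneg (by decide) (by decide) (by decide) (hone p hp))
    (d.prod_nonneg (by decide) (by decide) (by decide) (hone p hp))
    (d.prod_nonneg (by decide) (by decide) (by decide) (hone p hp))
    (by rcases hvp with a | a <;> rw [a] at hTT <;>
      first | linear_combination hTT | linear_combination -hTT)
  have hχS : χ ∈ S := Finset.mem_filter.2 ⟨Finset.mem_univ _, hχ⟩
  rw [hSeq, Finset.mem_insert, Finset.mem_singleton] at hχS
  rcases hχS with rfl | rfl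
  · fin_cases i <;> simp_all
  · rw [← hb i hi]; fin_cases i <;> simp_all

/-- A row: the trivial character and three more. -/
theorem row {i : Fin 4} (hi : i ≠ 0) (u : ι) (hu : u ≠ d.one) (hvu : d.v i u ≠ 0) :
    ∃ p q, p ≠ d.one ∧ q ≠ d.one ∧ p ≠ u ∧ q ≠ u ∧ p ≠ q ∧ d.v i p ≠ 0 ∧ d.v i q ≠ 0 ∧
      (∀ x, x ≠ d.one → d.v i x ≠ 0 → x = u ∨ x = p ∨ x = q) ∧
      (∀ F : ι → ℚ, ∑ x, (d.v i x : ℚ) * F x =
        F d.one + (d.v i u : ℚ) * F u + (d.v i p : ℚ) * F p + (d.v i q : ℚ) * F q) := by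
  classical
  set S := (Finset.univ.erase d.one).filter (fun x => d.v i x ≠ 0) with hS
  have hsq : ∀ x ∈ S, d.v i x * d.v i x = 1 := fun x hx => by
    obtain ⟨hx1, hx2⟩ := Finset.mem_filter.1 hx
    rcases d.v_cases i (Finset.mem_erase.1 hx1).1 with a | a | a
    · exact absurd a hx2
    all_goals simp [a]
  have hcard : S.card = 3 := by
    have h := d.sum_erase i i
    rw [← Finset.sum_subset (Finset.filter_subset _ _) (fun x hx hxS => by
        have : d.v i x = 0 := by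
          by_contra h'; exact hxS (Finset.mem_filter.2 ⟨hx, h'⟩)
        rw [this, zero_mul]), ← hS, Finset.sum_congr rfl hsq, Finset.sum_const, nsmul_eq_mul,
      mul_one, d.vi_one hi] at h
    have h3 : (gram i i - 1 * 1 : ℤ) = 3 := by fin_cases i <;> simp_all [gram]
    rw [h3] at h
    exact_mod_cast h
  have huS : u ∈ S := Finset.mem_filter.2 ⟨Finset.mem_erase.2 ⟨hu, Finset.mem_univ _⟩, hvu⟩
  obtain ⟨p, q, hpq, hpqS⟩ := Finset.card_eq_two.1
    (show (S.erase u).card = 2 by rw [Finset.card_erase_of_mem huS, hcard])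
  have hp : p ∈ S.erase u := by simp [hpqS]
  have hq : q ∈ S.erase u := by simp [hpqS]
  obtain ⟨hpu, hp⟩ := Finset.mem_erase.1 hp
  obtain ⟨hqu, hq⟩ := Finset.mem_erase.1 hq
  obtain ⟨hp1, hp2⟩ := Finset.mem_filter.1 hp
  obtain ⟨hq1, hq2⟩ := Finset.mem_filter.1 hq
  have hcov : ∀ x, x ≠ d.one → d.v i x ≠ 0 → x = u ∨ x = p ∨ x = q := by
    intro x hx hx0
    by_cases hxu : x = u
    · exact Or.inl hxu
    · have : x ∈ S.erase u := Finset.mem_erase.2
        ⟨hxu, Finset.mem_filter.2 ⟨Finset.mem_erase.2 ⟨hx, Finset.mem_univ _⟩, hx0⟩⟩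
      rw [hpqS, Finset.mem_insert, Finset.mem_singleton] at this
      exact Or.inr this
  refine ⟨p, q, (Finset.mem_erase.1 hp1).1, (Finset.mem_erase.1 hq1).1, hpu, hqu, hpq, hp2, hq2,
    hcov, fun F => ?_⟩
  rw [← Finset.add_sum_erase _ _ (Finset.mem_univ d.one), d.vi_one hi,
    ← Finset.sum_subset (Finset.filter_subset (fun x => d.v i x ≠ 0) _) (fun x hx hxS => by
      have : d.v i x = 0 := by
        by_contra h'; exact hxS (Finset.mem_filter.2 ⟨hx, h'⟩)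
      rw [this]; simp), ← hS, ← Finset.add_sum_erase _ _ huS, hpqS, Finset.sum_pair hpq]
  push_cast
  ring

/-- The signed degree. -/
def sd (i : Fin 4) (χ : ι) : ℤ := d.v i χ * (d.f χ : ℤ)

theorem sd_ne (i : Fin 4) {χ : ι} (h : d.v i χ ≠ 0) : d.sd i χ ≠ 0 :=
  mul_ne_zero h (by exact_mod_cast (d.f_pos χ).ne')

theorem sd_dvd (i : Fin 4) {χ : ι} (hχ : χ ≠ d.one) (h : d.v i χ ≠ 0) :
    d.sd i χ ∣ (N : ℤ) := by
  rcases d.v_cases i hχ with a | a | a
  · exact absurd a h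
  all_goals simpa [sd, a] using Int.natCast_dvd_natCast.2 (d.f_dvd χ)

theorem sd_sq (i : Fin 4) {χ : ι} (hχ : χ ≠ d.one) : d.sd i χ ^ 2 ≤ (N : ℤ) := by
  have h : ((d.f χ : ℤ)) ^ 2 ≤ (N : ℤ) := by exact_mod_cast d.f_sq χ
  rcases d.v_cases i hχ with a | a | a <;> simp [sd, a, h]

theorem sd_opt (i : Fin 4) {χ : ι} (hχ : χ ≠ d.one) (h : d.v i χ ≠ 0) {c : ℤ}
    (hT : d.T χ = c * d.v i χ) : Opt c (d.sd i χ) := by
  obtain ⟨k, hk, hk1, hk2⟩ := d.f_mod χ hχ
  rw [hT] at hk hk2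
  exact opt_of ((d.v_cases i hχ).resolve_left h) (by exact_mod_cast d.f_pos χ) hk hk1 hk2

theorem term (i : Fin 4) {χ : ι} (hχ : χ ≠ d.one) (h : d.v i χ ≠ 0) {c : ℤ}
    (hT : d.T χ = c * d.v i χ) :
    (d.v i χ : ℚ) * ((d.T χ : ℚ) ^ 2 / (d.f χ : ℚ)) = (c : ℚ) ^ 2 / (d.sd i χ : ℚ) := by
  rcases d.v_cases i hχ with a | a | a
  · exact absurd a h
  all_goals simp [sd, hT, a, div_neg, neg_div]

/-- The degree relation and the class equation of a row. -/
theorem row_eq {i : Fin 4} (hi : i ≠ 0) {u p q : ι} (hu : u ≠ d.one) (hp : p ≠ d.one)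
    (hq : q ≠ d.one) (hu0 : d.v i u ≠ 0) (hp0 : d.v i p ≠ 0) (hq0 : d.v i q ≠ 0)
    (hF : ∀ F : ι → ℚ, ∑ x, (d.v i x : ℚ) * F x =
        F d.one + (d.v i u : ℚ) * F u + (d.v i p : ℚ) * F p + (d.v i q : ℚ) * F q)
    {a b c : ℤ} (hTu : d.T u = a * d.v i u) (hTp : d.T p = b * d.v i p)
    (hTq : d.T q = c * d.v i q) :
    1 + d.sd i u + d.sd i p + d.sd i q = 0 ∧
      (N : ℚ) * (1 + (a : ℚ) ^ 2 / (d.sd i u : ℚ) + (b : ℚ) ^ 2 / (d.sd i p : ℚ) +
        (c : ℚ) ^ 2 / (d.sd i q : ℚ)) = 14400 * ((![0, 10, 10, 6] i : ℤ) : ℚ) := by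
  constructor
  · have h := hF fun x => (d.f x : ℚ)
    have h0 : ∑ x, (d.v i x : ℚ) * (d.f x : ℚ) = 0 := by exact_mod_cast d.deg i
    rw [h0, d.f_one] at h
    have : ((1 + d.sd i u + d.sd i p + d.sd i q : ℤ) : ℚ) = ((0 : ℤ) : ℚ) := by
      simp only [sd]; push_cast; push_cast at h; linarith
    exact_mod_cast this
  · have h1 := d.eqn i
    have h2 : ∀ x, (d.v i x : ℚ) * (d.T x : ℚ) ^ 2 / (d.f x : ℚ) =
        (d.v i x : ℚ) * ((d.T x : ℚ) ^ 2 / (d.f x : ℚ)) := fun x => by ring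
    simp only [h2, hF] at h1
    rw [d.term i hu hu0 hTu, d.term i hp hp0 hTp, d.term i hq hq0 hTq] at h1
    have hT1 : (d.T d.one : ℚ) ^ 2 / (d.f d.one : ℚ) = 1 := by
      rw [d.f_one, d.T_eq, d.v0_one, d.vi_one (by decide), d.vi_one (by decide),
        d.vi_one (by decide)]
      norm_num
    rw [hT1] at h1
    exact h1

theorem int_eq {N : ℕ} {W x y z a b c : ℤ} (hx : x ≠ 0) (hy : y ≠ 0) (hz : z ≠ 0)
    (h : (N : ℚ) * (1 + (a : ℚ) / x + (b : ℚ) / y + (c : ℚ) / z) = (W : ℚ)) :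
    (N : ℤ) * (x * y * z + a * y * z + b * x * z + c * x * y) = W * (x * y * z) := by
  have hx' : (x : ℚ) ≠ 0 := by exact_mod_cast hx
  have hy' : (y : ℚ) ≠ 0 := by exact_mod_cast hy
  have hz' : (z : ℚ) ≠ 0 := by exact_mod_cast hz
  have : (((N : ℤ) * (x * y * z + a * y * z + b * x * z + c * x * y) : ℤ) : ℚ) =
      ((W * (x * y * z) : ℤ) : ℚ) := by
    push_cast
    rw [← h]
    field_simp
  exact_mod_cast this

theorem abs_le_of_sq {x M : ℤ} {N : ℕ} (hM : 0 ≤ M) (h : x ^ 2 ≤ (N : ℤ))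
    (hN : (N : ℤ) < (M + 1) ^ 2) : |x| ≤ M := by
  have h1 : |x| < M + 1 := abs_lt_of_sq_lt_sq (h.trans_lt hN) (by linarith)
  linarith

theorem sun_bound {N : ℕ} {x0 x y : ℤ} (hx0 : Opt 1 x0) (hx : Opt 3 x) (hy : Opt 3 y)
    (hsum : 1 + x0 + x + y = 0)
    (h : (N : ℚ) * (1 + (1 : ℚ) / x0 + 9 / x + 9 / y) = 144000) : N ≤ 1008000 := by
  have e0 : (0 : ℚ) < x0 ∨ (x0 : ℚ) ≤ -7 := by
    rcases hx0.2 with ⟨a, -⟩ | ⟨-, a⟩
    · left; exact_mod_cast a
    · right; norm_num at a; exact_mod_cast a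
  have e1 : ∀ w : ℤ, Opt 3 w → (0 : ℚ) < w ∨ (w : ℚ) ≤ -21 := by
    intro w hw
    rcases hw.2 with ⟨a, -⟩ | ⟨-, a⟩
    · left; exact_mod_cast a
    · right; norm_num at a; exact_mod_cast a
  have a0 := inv_ge (c := (1 : ℚ)) (by norm_num) (by norm_num) e0
  have a1 := inv_ge (c := (9 : ℚ)) (by norm_num) (by norm_num) (e1 x hx)
  have a2 := inv_ge (c := (9 : ℚ)) (by norm_num) (by norm_num) (e1 y hy)
  have hs : (1 : ℚ) + x0 + x + y = 0 := by exact_mod_cast hsum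
  have hE : (1 : ℚ) / 7 ≤ 1 + (1 : ℚ) / x0 + 9 / x + 9 / y := by
    rcases e1 x hx with hxp | hxn
    · have : (0 : ℚ) ≤ 9 / x := by positivity
      linarith
    rcases e1 y hy with hyp | hyn
    · have : (0 : ℚ) ≤ 9 / y := by positivity
      linarith
    have hp : (0 : ℚ) < x0 := by linarith
    have : (0 : ℚ) ≤ 1 / x0 := by positivity
    linarith
  have : (N : ℚ) ≤ 1008000 := by
    nlinarith [mul_le_mul_of_nonneg_left hE (Nat.cast_nonneg N : (0 : ℚ) ≤ (N : ℚ))]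
  exact_mod_cast this

theorem tri_bound {N : ℕ} {x y p : ℤ} (hx : Opt 6 x) (hy : Opt (-2) y) (hp : Opt 3 p)
    (hsum : 1 + x + y + p = 0) (hxs : x ^ 2 ≤ (N : ℤ)) (hys : y ^ 2 ≤ (N : ℤ))
    (h : (N : ℚ) * (1 + (36 : ℚ) / x + 4 / y + 9 / p) = 144000) : |x| ≤ 1420 ∧ |y| ≤ 1420 := by
  by_cases hE : (1 : ℚ) / 14 ≤ 1 + (36 : ℚ) / x + 4 / y + 9 / p
  · have : (N : ℚ) ≤ 2016000 := by
      nlinarith [mul_le_mul_of_nonneg_left hE (Nat.cast_nonneg N : (0 : ℚ) ≤ (N : ℚ))]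
    have hN : (N : ℤ) ≤ 2016000 := by exact_mod_cast this
    exact ⟨abs_le_of_sq (by norm_num) hxs (by linarith), abs_le_of_sq (by norm_num) hys (by linarith)⟩
  rw [not_le] at hE
  have e0 : (0 : ℚ) < x ∨ (x : ℚ) ≤ -42 := by
    rcases hx.2 with ⟨a, -⟩ | ⟨-, a⟩
    · left; exact_mod_cast a
    · right; norm_num at a; exact_mod_cast a
  have e1 : (0 : ℚ) < y ∨ (y : ℚ) ≤ -10 := by
    rcases hy.2 with ⟨a, -⟩ | ⟨-, a⟩
    · left; exact_mod_cast a
    · right; norm_num at a; exact_mod_cast a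
  have e2 : (0 : ℚ) < p ∨ (p : ℚ) ≤ -21 := by
    rcases hp.2 with ⟨a, -⟩ | ⟨-, a⟩
    · left; exact_mod_cast a
    · right; norm_num at a; exact_mod_cast a
  have a0 := inv_ge (c := (36 : ℚ)) (by norm_num) (by norm_num) e0
  have a1 := inv_ge (c := (4 : ℚ)) (by norm_num) (by norm_num) e1
  have a2 := inv_ge (c := (9 : ℚ)) (by norm_num) (by norm_num) e2
  rcases e0 with hxp | hxn
  · have : (0 : ℚ) ≤ 36 / x := by positivity
    linarith
  have hs : (1 : ℚ) + x + y + p = 0 := by exact_mod_cast hsum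
  rcases e1 with hyp | hyn
  · have h4 : (0 : ℚ) ≤ 4 / y := by positivity
    have hpn : (p : ℚ) ≤ -21 := by
      rcases e2 with hpp | hpn
      · have : (0 : ℚ) ≤ 9 / p := by positivity
        linarith
      · exact hpn
    have hb1 := lt_of_div_lt (c := (36 : ℚ)) (δ := 1 / 2) (by norm_num) (by linarith : (x : ℚ) < 0)
      (by linarith)
    have hb2 := lt_of_div_lt (c := (9 : ℚ)) (δ := 1 / 14) (by norm_num) (by linarith : (p : ℚ) < 0)
      (by linarith)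
    norm_num at hb1 hb2
    have h1 : |(x : ℚ)| ≤ 1420 := by rw [abs_le]; constructor <;> linarith
    have h2 : |(y : ℚ)| ≤ 1420 := by rw [abs_le]; constructor <;> linarith
    exact ⟨by exact_mod_cast h1, by exact_mod_cast h2⟩
  · have hpp : (0 : ℚ) < p := by
      rcases e2 with hpp | hpn
      · exact hpp
      · linarith
    have h9 : (0 : ℚ) ≤ 9 / p := by positivity
    have hb1 := lt_of_div_lt (c := (36 : ℚ)) (δ := 1 / 2) (by norm_num) (by linarith : (x : ℚ) < 0)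
      (by linarith)
    have hb2 := lt_of_div_lt (c := (4 : ℚ)) (δ := 1 / 14) (by norm_num) (by linarith : (y : ℚ) < 0)
      (by linarith)
    norm_num at hb1 hb2
    have h1 : |(x : ℚ)| ≤ 1420 := by rw [abs_le]; constructor <;> linarith
    have h2 : |(y : ℚ)| ≤ 1420 := by rw [abs_le]; constructor <;> linarith
    exact ⟨by exact_mod_cast h1, by exact_mod_cast h2⟩

theorem v0_zero {i : Fin 4} (hi : i ≠ 0) {χ : ι} (h : d.v i χ ≠ 0) : d.v 0 χ = 0 := by
  by_contra h0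
  exact h (d.disjoint_zero hi h0)

theorem same {a b : ℤ} (h : a * b = 1) : b = a := by
  rcases Int.eq_one_or_neg_one_of_mul_eq_one' h with ⟨rfl, rfl⟩ | ⟨rfl, rfl⟩ <;> rfl

include d in
/-- The order is `175560` or `189000`. -/
theorem order_cases (h120 : 120 ∣ N) (h16 : ¬ 16 ∣ N) : N = 175560 ∨ N = 189000 := by
  have n1 : (1 : Fin 4) ≠ 0 := by decide
  have n2 : (2 : Fin 4) ≠ 0 := by decide
  have n3 : (3 : Fin 4) ≠ 0 := by decide
  have hN := d.N_pos
  obtain ⟨u, hu, hu12, u12⟩ := d.exists_common n1 n2 (by decide)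
  obtain ⟨w, hw, hw13, w13⟩ := d.exists_common n1 n3 (by decide)
  obtain ⟨z, hz, hz23, z23⟩ := d.exists_common n2 n3 (by decide)
  have nz : ∀ {a b : ℤ}, a * b = 1 → a ≠ 0 ∧ b ≠ 0 := fun {a b} h =>
    ⟨left_ne_zero_of_mul_eq_one h, right_ne_zero_of_mul_eq_one h⟩
  have hu2 := same hu12
  have hw3 := same hw13
  have hz3 := same hz23
  obtain ⟨hu1n, hu2n⟩ := nz hu12
  obtain ⟨hw1n, hw3n⟩ := nz hw13
  obtain ⟨hz2n, hz3n⟩ := nz hz23
  by_cases huw : u = w
  · -- common centre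
    subst huw
    have huz : u = z := by
      by_contra h
      rcases mul_eq_zero.1 (z23 u hu h) with a | a
      · exact hu2n a
      · exact hw3n a
    subst huz
    obtain ⟨p, q, hp, hq, hpu, hqu, -, hp1, hq1, -, hF⟩ := d.row n1 u hu hu1n
    have hTu : d.T u = 1 * d.v 1 u := by
      rw [d.T_eq, d.v0_zero n1 hu1n, hu2, hw3]; ring
    have hT : ∀ x, x ≠ d.one → x ≠ u → d.v 1 x ≠ 0 → d.T x = 3 * d.v 1 x := fun x hx hxu h => by
      rw [d.T_eq, d.v0_zero n1 h, (mul_eq_zero.1 (u12 x hx hxu)).resolve_left h,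
        (mul_eq_zero.1 (w13 x hx hxu)).resolve_left h]
      ring
    obtain ⟨hs, he⟩ := d.row_eq n1 hu hp hq hu1n hp1 hq1 hF hTu (hT p hp hpu hp1) (hT q hq hqu hq1)
    simp only [Matrix.cons_val] at he
    norm_num at he
    have o0 := d.sd_opt 1 hu hu1n hTu
    have o1 := d.sd_opt 1 hp hp1 (hT p hp hpu hp1)
    have o2 := d.sd_opt 1 hq hq1 (hT q hq hqu hq1)
    have hN8 : (N : ℤ) ≤ 1008000 := by
      exact_mod_cast sun_bound o0 o1 o2 hs (by rw [← he]; ring)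
    have hb : ∀ i (x : ι), x ≠ d.one → |d.sd i x| ≤ 1010 := fun i x hx =>
      abs_le_of_sq (by norm_num) (d.sd_sq i hx) (by linarith)
    have m1 := mem_of_checkSun checkSun_one (N := N) (c := 3) (W := 144000) (by norm_num) o0 o1
      (hb 1 u hu) (hb 1 p hp) hs hN h120 h16 (d.sd_dvd 1 hu hu1n) (d.sd_dvd 1 hp hp1)
      (d.sd_dvd 1 hq hq1)
      (by
        have := int_eq (N := N) (W := 144000) (a := 1) (b := 9) (c := 9) (d.sd_ne 1 hu1n)
          (d.sd_ne 1 hp1) (d.sd_ne 1 hq1) (by push_cast; rw [one_div]; exact he)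
        linear_combination this)
      (mul_ne_zero (by norm_num) (mul_ne_zero (mul_ne_zero (d.sd_ne 1 hu1n) (d.sd_ne 1 hp1))
        (d.sd_ne 1 hq1)))
    obtain ⟨r, s, hr, hs', hru, hsu, -, hr3, hs3, -, hG⟩ := d.row n3 u hu hw3n
    have hTu3 : d.T u = 1 * d.v 3 u := by rw [hTu, hw3]
    have hT3 : ∀ x, x ≠ d.one → x ≠ u → d.v 3 x ≠ 0 → d.T x = -5 * d.v 3 x :=
      fun x hx hxu h => by
      rw [d.T_eq, d.v0_zero n3 h, (mul_eq_zero.1 (w13 x hx hxu)).resolve_right h,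
        (mul_eq_zero.1 (z23 x hx hxu)).resolve_right h]
      ring
    obtain ⟨ht, hf⟩ := d.row_eq n3 hu hr hs' hw3n hr3 hs3 hG hTu3 (hT3 r hr hru hr3)
      (hT3 s hs' hsu hs3)
    simp only [Matrix.cons_val] at hf
    norm_num at hf
    have m2 := mem_of_checkSun checkSun_two (N := N) (c := -5) (W := 86400) (by norm_num)
      (d.sd_opt 3 hu hw3n hTu3) (d.sd_opt 3 hr hr3 (hT3 r hr hru hr3))
      (hb 3 u hu) (hb 3 r hr) ht hN h120 h16 (d.sd_dvd 3 hu hw3n) (d.sd_dvd 3 hr hr3)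
      (d.sd_dvd 3 hs' hs3)
      (by
        have := int_eq (N := N) (W := 86400) (a := 1) (b := 25) (c := 25) (d.sd_ne 3 hw3n)
          (d.sd_ne 3 hr3) (d.sd_ne 3 hs3) (by push_cast; rw [one_div]; exact hf)
        linear_combination this)
      (mul_ne_zero (by norm_num) (mul_ne_zero (mul_ne_zero (d.sd_ne 3 hw3n) (d.sd_ne 3 hr3))
        (d.sd_ne 3 hs3)))
    simp only [sunOne, sunTwo, List.mem_cons, List.not_mem_nil, or_false] at m1 m2
    omega
  · -- three distinct common constituents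
    exfalso
    have huz : u ≠ z := by
      intro h; subst h
      rcases mul_eq_zero.1 (w13 u hu huw) with a | a
      · exact hu1n a
      · exact hz3n a
    have hwz : w ≠ z := by
      intro h; subst h
      rcases mul_eq_zero.1 (u12 w hw (Ne.symm huw)) with a | a
      · exact hw1n a
      · exact hz2n a
    have hu3 : d.v 3 u = 0 := (mul_eq_zero.1 (w13 u hu huw)).resolve_left hu1n
    have hw2 : d.v 2 w = 0 := (mul_eq_zero.1 (u12 w hw (Ne.symm huw))).resolve_left hw1n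
    have hz1 : d.v 1 z = 0 := (mul_eq_zero.1 (u12 z hz (Ne.symm huz))).resolve_right hz2n
    have Tu : d.T u = 6 * d.v 1 u := by rw [d.T_eq, d.v0_zero n1 hu1n, hu2, hu3]; ring
    have Tw : d.T w = -2 * d.v 1 w := by rw [d.T_eq, d.v0_zero n1 hw1n, hw2, hw3]; ring
    have Tz : d.T z = -2 * d.v 2 z := by rw [d.T_eq, d.v0_zero n2 hz2n, hz1, hz3]; ring
    have Tu2 : d.T u = 6 * d.v 2 u := by rw [Tu, hu2]
    have Tw3 : d.T w = -2 * d.v 3 w := by rw [Tw, hw3]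
    have Tz3 : d.T z = -2 * d.v 3 z := by rw [Tz, hz3]
    -- each row consists of the trivial character, two common constituents and a private one
    obtain ⟨p, q, hp, hq, hpu, hqu, hpq, hp1, hq1, cov, hF⟩ := d.row n1 u hu hu1n
    obtain ⟨P, hP, hP1, hPu, hPw, hF1⟩ : ∃ P, P ≠ d.one ∧ d.v 1 P ≠ 0 ∧ P ≠ u ∧ P ≠ w ∧
        ∀ F : ι → ℚ, ∑ x, (d.v 1 x : ℚ) * F x =
          F d.one + (d.v 1 u : ℚ) * F u + (d.v 1 w : ℚ) * F w + (d.v 1 P : ℚ) * F P := by
      rcases cov w hw hw1n with h | h | h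
      · exact absurd h.symm huw
      · exact ⟨q, hq, hq1, hqu, h ▸ hpq.symm, fun F => by rw [hF F, h]⟩
      · exact ⟨p, hp, hp1, hpu, h ▸ hpq, fun F => by rw [hF F, h]; ring⟩
    obtain ⟨p', q', hp', hq', hpu', hqu', hpq', hp2, hq2, cov', hF'⟩ := d.row n2 u hu hu2n
    obtain ⟨Q, hQ, hQ2, hQu, hQz, hF2⟩ : ∃ Q, Q ≠ d.one ∧ d.v 2 Q ≠ 0 ∧ Q ≠ u ∧ Q ≠ z ∧
        ∀ F : ι → ℚ, ∑ x, (d.v 2 x : ℚ) * F x =
          F d.one + (d.v 2 u : ℚ) * F u + (d.v 2 z : ℚ) * F z + (d.v 2 Q : ℚ) * F Q := by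
      rcases cov' z hz hz2n with h | h | h
      · exact absurd h.symm huz
      · exact ⟨q', hq', hq2, hqu', h ▸ hpq'.symm, fun F => by rw [hF' F, h]⟩
      · exact ⟨p', hp', hp2, hpu', h ▸ hpq', fun F => by rw [hF' F, h]; ring⟩
    obtain ⟨r, s, hr, hs, hrw, hsw, hrs, hr3, hs3, cov'', hF''⟩ := d.row n3 w hw hw3n
    obtain ⟨R, hR, hR3, hRw, hRz, hF3⟩ : ∃ R, R ≠ d.one ∧ d.v 3 R ≠ 0 ∧ R ≠ w ∧ R ≠ z ∧
        ∀ F : ι → ℚ, ∑ x, (d.v 3 x : ℚ) * F x =
          F d.one + (d.v 3 w : ℚ) * F w + (d.v 3 z : ℚ) * F z + (d.v 3 R : ℚ) * F R := by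
      rcases cov'' z hz hz3n with h | h | h
      · exact absurd h.symm hwz
      · exact ⟨s, hs, hs3, hsw, h ▸ hrs.symm, fun F => by rw [hF'' F, h]⟩
      · exact ⟨r, hr, hr3, hrw, h ▸ hrs, fun F => by rw [hF'' F, h]; ring⟩
    have TP : d.T P = 3 * d.v 1 P := by
      rw [d.T_eq, d.v0_zero n1 hP1, (mul_eq_zero.1 (u12 P hP hPu)).resolve_left hP1,
        (mul_eq_zero.1 (w13 P hP hPw)).resolve_left hP1]
      ring
    have TQ : d.T Q = 3 * d.v 2 Q := by
      rw [d.T_eq, d.v0_zero n2 hQ2, (mul_eq_zero.1 (u12 Q hQ hQu)).resolve_right hQ2,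
        (mul_eq_zero.1 (z23 Q hQ hQz)).resolve_left hQ2]
      ring
    have TR : d.T R = -5 * d.v 3 R := by
      rw [d.T_eq, d.v0_zero n3 hR3, (mul_eq_zero.1 (w13 R hR hRw)).resolve_right hR3,
        (mul_eq_zero.1 (z23 R hR hRz)).resolve_right hR3]
      ring
    obtain ⟨s1, e1⟩ := d.row_eq n1 hu hw hP hu1n hw1n hP1 hF1 Tu Tw TP
    obtain ⟨s2, e2⟩ := d.row_eq n2 hu hz hQ hu2n hz2n hQ2 hF2 Tu2 Tz TQ
    obtain ⟨s3, e3⟩ := d.row_eq n3 hw hz hR hw3n hz3n hR3 hF3 Tw3 Tz3 TR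
    simp only [Matrix.cons_val] at e1 e2 e3
    norm_num at e1 e2 e3
    have list_mem : ∀ (i : Fin 4) (a b c : ι), a ≠ d.one → b ≠ d.one → c ≠ d.one → d.v i a ≠ 0 →
        d.v i b ≠ 0 → d.v i c ≠ 0 → d.T a = 6 * d.v i a → d.T b = -2 * d.v i b →
        d.T c = 3 * d.v i c → 1 + d.sd i a + d.sd i b + d.sd i c = 0 →
        (N : ℚ) * (1 + (36 : ℚ) / (d.sd i a) + 4 / (d.sd i b) + 9 / (d.sd i c)) = 144000 →
        ((N : ℤ), d.sd i a, d.sd i b) ∈ triList := by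
      intro i a b c ha hb hc ha0 hb0 hc0 Ta Tb Tc hs he
      have oa := d.sd_opt i ha ha0 Ta
      have ob := d.sd_opt i hb hb0 Tb
      obtain ⟨ba, bb⟩ := tri_bound oa ob (d.sd_opt i hc hc0 Tc) hs (d.sd_sq i ha) (d.sd_sq i hb) he
      refine mem_triList oa ob ba bb hs hN h120 h16 (d.sd_dvd i ha ha0) (d.sd_dvd i hb hb0)
        (d.sd_dvd i hc hc0) ?_
        (mul_ne_zero (by norm_num) (mul_ne_zero (mul_ne_zero (d.sd_ne i ha0) (d.sd_ne i hb0))
          (d.sd_ne i hc0)))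
      exact int_eq (d.sd_ne i ha0) (d.sd_ne i hb0) (d.sd_ne i hc0) (by push_cast; exact he)
    have m1 := list_mem 1 u w P hu hw hP hu1n hw1n hP1 Tu Tw TP s1 (by rw [← e1])
    have m2 := list_mem 2 u z Q hu hz hQ hu2n hz2n hQ2 Tu2 Tz TQ s2 (by rw [← e2])
    have i1 : d.sd 1 u = d.sd 2 u := by simp [sd, hu2]
    have i2 : d.sd 1 w = d.sd 3 w := by simp [sd, hw3]
    have i3 : d.sd 2 z = d.sd 3 z := by simp [sd, hz3]
    have h3 := int_eq (N := N) (W := 86400) (a := 4) (b := 4) (c := 25) (d.sd_ne 3 hw3n)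
      (d.sd_ne 3 hz3n) (d.sd_ne 3 hR3) (by push_cast; exact e3)
    refine tri_none _ m1 _ m2 rfl i1 ?_
    simp only
    rw [i2, i3, show -1 - d.sd 3 w - d.sd 3 z = d.sd 3 R by linarith]
    linear_combination h3

end Numeric

end CfsgLib.JankoOrder
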