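import Cfsg.Agent.Lib.JankoOrder.Setup
import Cfsg.Agent.Lib.Frobenius.TI
import Cfsg.Agent.Lib.BrauerCharacters.ClassMul
import Cfsg.Agent.Lib.Correspondences.CharKer

/-!
The isometry from the class functions supported on the `2`-section of `t`, and the class algebra
equations it gives for the degrees.
-/

set_option autoImplicit false
set_option linter.unusedSectionVars false
set_option linter.style.haveILetI false

open Cfsg
open scoped ComplexConjugate

namespace CfsgLib.JankoOrder

universe u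

/-- The numerical data extracted from the group. -/
structure Numeric (N : ℕ) (ι : Type u) [Fintype ι] where
  one : ι
  f : ι → ℕ
  v : Fin 4 → ι → ℤ
  T : ι → ℤ
  T_eq : ∀ χ, T χ = 4 * v 0 χ + 3 * v 1 χ + 3 * v 2 χ - 5 * v 3 χ
  gram_eq : ∀ i j, ∑ χ, v i χ * v j χ = gram i j
  v_one : ∀ i, v i one = ![0, 1, 1, 1] i
  f_one : f one = 1
  f_pos : ∀ χ, 0 < f χ
  f_dvd : ∀ χ, f χ ∣ N
  f_sq : ∀ χ, f χ ^ 2 ≤ N
  f_mod : ∀ χ, χ ≠ one → ∃ k : ℤ, (f χ : ℤ) = T χ + 8 * k ∧ 1 ≤ k ∧ -T χ ≤ k
  deg : ∀ i, ∑ χ, v i χ * (f χ : ℤ) = 0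
  eqn : ∀ i, (N : ℚ) * ∑ χ, (v i χ : ℚ) * (T χ : ℚ) ^ 2 / (f χ : ℚ) =
    14400 * ((![0, 10, 10, 6] i : ℤ) : ℚ)

namespace Model

variable {G : Type u} [Group G] (d : Model G)

/-- The centraliser of `t`. -/
abbrev C : Subgroup G := Subgroup.centralizer ({d.t} : Set G)

/-- The centraliser is `2 × A₅`. -/
noncomputable def eqv : d.C ≃* K :=
  ((MonoidHom.ofInjective d.inj).trans (MulEquiv.subgroupCongr d.range)).symm

theorem phi_eqv (c : d.C) : d.φ (d.eqv c) = c := by
  obtain ⟨p, rfl⟩ := ((MonoidHom.ofInjective d.inj).trans (MulEquiv.subgroupCongr d.range)).surjective c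
  rw [eqv, MulEquiv.symm_apply_apply]
  rfl

/-- The four functions on the centraliser. -/
noncomputable def alpha (i : Fin 4) (c : d.C) : ℂ := alphaK i (d.eqv c)

theorem isGeneralizedCharacter_alpha (i : Fin 4) : IsGeneralizedCharacter d.C (d.alpha i) :=
  CfsgLib.Coherence.isGeneralizedCharacter_comp (isGeneralizedCharacter_alphaK i) d.eqv.toMonoidHom

theorem conj_alpha (i : Fin 4) (c : d.C) : conj (d.alpha i c) = d.alpha i c := by
  simp [alpha, alphaK, conj_val]

variable [Finite G]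

theorem alpha_eq_zero (i : Fin 4) (c : d.C) (hc : (c : G) ∉ {g : G | g ^ 15 = d.t}) :
    d.alpha i c = 0 :=
  alphaK_eq_zero_of_pow (fun h => hc (by
    show (c : G) ^ 15 = d.t
    rw [← d.phi_eqv c, ← map_pow, h, d.phi_kz])) i

theorem alpha_one (i : Fin 4) : d.alpha i 1 = 0 := by
  refine d.alpha_eq_zero i 1 fun h => ?_
  have h' : (((1 : d.C) : G)) ^ 15 = d.t := h
  rw [OneMemClass.coe_one, one_pow] at h'
  exact d.t_ne_one h'.symm

theorem ti (x : G) (hx : x ∉ d.C) (s : G) (hs : s ∈ {g : G | g ^ 15 = d.t})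
    (hsx : x⁻¹ * s * x ∈ {g : G | g ^ 15 = d.t}) : s = 1 := by
  refine absurd ?_ hx
  have h1 : (x⁻¹ * s * x⁻¹⁻¹) ^ 15 = d.t := by rw [inv_inv]; exact hsx
  rw [conj_pow, show s ^ 15 = d.t from hs, inv_inv] at h1
  refine Subgroup.mem_centralizer_singleton_iff.2 ?_
  calc x * d.t = x * (x⁻¹ * d.t * x) := by rw [h1]
    _ = d.t * x := by group

variable [Fintype G]

theorem sum_alpha (F : d.C → ℂ) [Fintype d.C] (i : Fin 4) :
    ∑ c : d.C, d.alpha i c * F c = ∑ p : K, alphaK i p * F (d.eqv.symm p) :=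
  Fintype.sum_equiv d.eqv.toEquiv _ _ fun c => by simp [alpha]

open scoped Classical in
/-- The number of ways of writing an element as a product of two conjugates of `t`. -/
noncomputable def cnt (u : G) : ℕ :=
  (Finset.univ.filter fun x => IsConj d.t x ∧ IsConj d.t (x * u)).card

theorem cnt_conj (u g : G) : d.cnt (g * u * g⁻¹) = d.cnt u := by
  classical
  refine Finset.card_equiv (MulAut.conj g⁻¹).toEquiv fun x => ?_
  simp only [Finset.mem_filter, Finset.mem_univ, true_and, MulEquiv.toEquiv_eq_coe,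
    MulEquiv.coe_toEquiv, MulAut.conj_apply, inv_inv]
  have e1 : ∀ y : G, IsConj d.t y ↔ IsConj d.t (g⁻¹ * y * g) := fun y =>
    ⟨fun h => h.trans (isConj_iff.2 ⟨g⁻¹, by rw [inv_inv]⟩),
      fun h => h.trans (isConj_iff.2 ⟨g, by group⟩)⟩
  rw [e1 x, e1 (x * (g * u * g⁻¹)),
    show g⁻¹ * (x * (g * u * g⁻¹)) * g = g⁻¹ * x * g * u by group]

variable (h2 : IsTwoCentralInvolution d.t) [IsSimpleGroup G]
include h2

theorem isConj_iff_involution {x : G} : IsConj d.t x ↔ x * x = 1 ∧ x ≠ 1 := by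
  constructor
  · intro h
    obtain ⟨g, rfl⟩ := isConj_iff.1 h
    refine ⟨by rw [show g * d.t * g⁻¹ * (g * d.t * g⁻¹) = g * (d.t * d.t) * g⁻¹ by group, d.t_sq]
               group, fun h1 => d.t_ne_one ?_⟩
    rw [show d.t = g⁻¹ * (g * d.t * g⁻¹) * g by group, h1]; group
  · rintro ⟨h, h1⟩
    exact d.isConj_t h2 (orderOf_eq_prime (by rw [pow_two, h]) h1)

theorem cnt_eq {q : K} (hq : q ^ 15 = kz) : d.cnt (d.φ q) = pairs q := by
  classical
  rw [pairs]
  refine (Finset.card_bij' (fun p _ => d.φ p)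
    (fun x _ => Function.invFun d.φ x) ?_ ?_ ?_ ?_).symm
  · intro p hp
    simp only [Finset.mem_filter, Finset.mem_univ, true_and] at hp ⊢
    rw [d.isConj_iff_involution h2, d.isConj_iff_involution h2, ← map_mul, ← map_mul, ← map_mul,
      hp.1.1, hp.2.1, map_one]
    exact ⟨⟨rfl, fun h => hp.1.2 (d.inj (h.trans (map_one _).symm))⟩, rfl,
      fun h => hp.2.2 (d.inj (h.trans (map_one _).symm))⟩
  · intro x hx
    simp only [Finset.mem_filter, Finset.mem_univ, true_and] at hx ⊢
    rw [d.isConj_iff_involution h2, d.isConj_iff_involution h2] at hx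
    obtain ⟨⟨hx1, hx2⟩, hx3, hx4⟩ := hx
    have hxi : x⁻¹ = x := inv_eq_of_mul_eq_one_right hx1
    have hxu : x * d.φ q * x⁻¹ = (d.φ q)⁻¹ := by
      rw [eq_inv_iff_mul_eq_one, hxi]
      simpa [mul_assoc] using hx3
    have ht : d.φ q ^ 15 = d.t := by rw [← map_pow, hq, d.phi_kz]
    have hxt : x * d.t * x⁻¹ = d.t := by
      conv_lhs => rw [← ht, ← conj_pow, hxu, inv_pow, ht, inv_eq_of_mul_eq_one_right d.t_sq]
    obtain ⟨p, rfl⟩ := d.exists_phi (mul_inv_eq_iff_eq_mul.1 hxt)
    rw [Function.leftInverse_invFun d.inj p]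
    refine ⟨⟨d.inj (by rw [map_mul, hx1, map_one]), fun h => hx2 (by rw [h, map_one])⟩,
      d.inj (by rw [map_mul, map_mul, hx3, map_one]),
      fun h => hx4 (by rw [← map_mul, h, map_one])⟩
  · intro p _
    exact Function.leftInverse_invFun d.inj p
  · intro x hx
    simp only [Finset.mem_filter, Finset.mem_univ, true_and] at hx
    rw [d.isConj_iff_involution h2, d.isConj_iff_involution h2] at hx
    obtain ⟨⟨hx1, hx2⟩, hx3, hx4⟩ := hx
    have hxi : x⁻¹ = x := inv_eq_of_mul_eq_one_right hx1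
    have hxu : x * d.φ q * x⁻¹ = (d.φ q)⁻¹ := by
      rw [eq_inv_iff_mul_eq_one, hxi]
      simpa [mul_assoc] using hx3
    have ht : d.φ q ^ 15 = d.t := by rw [← map_pow, hq, d.phi_kz]
    have hxt : x * d.t * x⁻¹ = d.t := by
      conv_lhs => rw [← ht, ← conj_pow, hxu, inv_pow, ht, inv_eq_of_mul_eq_one_right d.t_sq]
    obtain ⟨p, rfl⟩ := d.exists_phi (mul_inv_eq_iff_eq_mul.1 hxt)
    rw [Function.leftInverse_invFun d.inj p]

/-- The numerical data of the group. -/
theorem exists_numeric :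
    ∃ (ι : Type u) (_ : Fintype ι), Nonempty (Numeric (Nat.card G) ι) := by
  classical
  haveI := Fintype.ofFinite (IrrCharacter G)
  haveI : Fintype d.C := Fintype.ofFinite _
  set S : Set G := {g : G | g ^ 15 = d.t} with hSdef
  have hcls : ∀ i, IsClassFunction d.C (d.alpha i) := fun i =>
    CharTheory.IsGeneralizedCharacter.isClassFunction (d.isGeneralizedCharacter_alpha i)
  have hind : ∀ i, ∃ m : IrrCharacter G → ℤ,
      indFun d.C (d.alpha i) = ∑ χ, (m χ : ℂ) • (χ : G → ℂ) := fun i =>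
    CharTheory.isGeneralizedCharacter_iff_exists_sum.1
      (Frobenius.isGeneralizedCharacter_indFun _ _ (d.isGeneralizedCharacter_alpha i))
  choose v hv using hind
  have hC : Nat.card d.C = 120 := d.card_centralizer
  -- the coefficients
  have hcoef : ∀ i (χ : IrrCharacter G), (v i χ : ℂ) =
      (120 : ℂ)⁻¹ * ∑ c : d.C, d.alpha i c * conj ((χ : G → ℂ) c) := by
    intro i χ
    have h1 := Frobenius.classInner_indFun d.C (d.alpha i) (χ : G → ℂ)
      (CharTheory.IsIrrCharacter.isClassFunction χ.2)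
    rw [hv i, CharTheory.classInner_sum_irr] at h1
    rw [h1, classInner, hC]
    norm_num
  have hgram : ∀ i j, ∑ χ, v i χ * v j χ = gram i j := by
    intro i j
    have h1 := Frobenius.classInner_indFun_indFun_of_ti d.C S (fun x hx s hs hsx => d.ti x hx s hs hsx)
      (d.alpha i) (d.alpha j) (hcls j) (fun c hc => d.alpha_eq_zero i c hc)
      (fun c hc => d.alpha_eq_zero j c hc) (d.alpha_one j)
    rw [hv i, hv j, CharTheory.classInner_generalized_sum, classInner, hC, d.sum_alpha] at h1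
    simp only [alpha, MulEquiv.apply_symm_apply, sum_alphaK_mul] at h1
    have h2 : ((∑ χ, v i χ * v j χ : ℤ) : ℂ) = ((gram i j : ℤ) : ℂ) := by
      rw [h1]; push_cast; ring
    exact_mod_cast h2
  have hone : ∀ i, v i (CharTheory.trivIrr G) = ![0, 1, 1, 1] i := by
    intro i
    have h1 := hcoef i (CharTheory.trivIrr G)
    simp only [CharTheory.trivIrr_apply, map_one] at h1
    rw [d.sum_alpha (fun _ => 1)] at h1
    simp only [mul_one, sum_alphaK] at h1
    have h2 : ((v i (CharTheory.trivIrr G) : ℤ) : ℂ) = ((![0, 1, 1, 1] i : ℤ) : ℂ) := by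
      rw [h1]; push_cast; ring
    exact_mod_cast h2
  have hval : ∀ χ : IrrCharacter G, (χ : G → ℂ) d.t =
      ((4 * v 0 χ + 3 * v 1 χ + 3 * v 2 χ - 5 * v 3 χ : ℤ) : ℂ) := by
    intro χ
    have hd : ∑ p : K, (4 * alphaK 0 p + 3 * alphaK 1 p + 3 * alphaK 2 p - 5 * alphaK 3 p) *
        conj ((χ : G → ℂ) (d.eqv.symm p : d.C)) = 120 * conj ((χ : G → ℂ) d.t) := by
      simp only [alphaK_delta]
      rw [Finset.sum_eq_single kz (fun p _ hp => by rw [if_neg hp, zero_mul]) (by simp), if_pos rfl]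
      congr 2
      rw [← d.phi_eqv (d.eqv.symm kz), MulEquiv.apply_symm_apply, d.phi_kz]
    push_cast
    simp only [hcoef, d.sum_alpha]
    rw [BrauerCharacters.conj_apply, inv_eq_of_mul_eq_one_right d.t_sq] at hd
    simp only [add_mul, sub_mul, Finset.sum_add_distrib, Finset.sum_sub_distrib, mul_assoc,
      ← Finset.mul_sum] at hd
    linear_combination (-(120 : ℂ)⁻¹) * hd
  have hdeg : ∀ i, ∑ χ, v i χ * (charDegree (χ : G → ℂ) : ℤ) = 0 := by
    intro i
    have h1 := congrFun (hv i) 1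
    rw [Frobenius.indFun_one, d.alpha_one] at h1
    simp only [mul_zero, Finset.sum_apply, Pi.smul_apply, smul_eq_mul,
      (fun χ => (BrauerCharacters.charDegree_spec χ).1 : ∀ χ : IrrCharacter G, _)] at h1
    have h2 : ((∑ χ : IrrCharacter G, v i χ * (charDegree (χ : G → ℂ) : ℤ) : ℤ) : ℂ) = 0 := by
      push_cast; exact h1.symm
    exact_mod_cast h2
  refine ⟨IrrCharacter G, inferInstance, ⟨
    { one := CharTheory.trivIrr G
      f := fun χ => charDegree (χ : G → ℂ)
      v := v
      T := fun χ => 4 * v 0 χ + 3 * v 1 χ + 3 * v 2 χ - 5 * v 3 χ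
      T_eq := fun χ => rfl
      gram_eq := hgram
      v_one := hone
      f_one := ?_
      f_pos := fun χ => (BrauerCharacters.charDegree_spec χ).2.1
      f_dvd := fun χ => (BrauerCharacters.charDegree_spec χ).2.2
      f_sq := ?_
      f_mod := ?_
      deg := hdeg
      eqn := ?_ }⟩⟩
  · have := (BrauerCharacters.charDegree_spec (CharTheory.trivIrr G)).1
    rw [CharTheory.trivIrr_apply] at this
    exact_mod_cast this.symm
  · intro χ
    have h1 := CharTheory.classInner_self_of_isIrr χ.2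
    rw [classInner, inv_mul_eq_one₀ (Nat.cast_ne_zero.2 Nat.card_pos.ne')] at h1
    have h2 : (Nat.card G : ℝ) = ∑ g : G, ‖(χ : G → ℂ) g‖ ^ 2 := by
      have := congrArg Complex.re h1
      simp only [Complex.mul_conj', Complex.natCast_re, Complex.re_sum] at this
      rw [this]
      exact Finset.sum_congr rfl fun g _ => by norm_cast
    have h3 : ‖(χ : G → ℂ) 1‖ ^ 2 ≤ (Nat.card G : ℝ) := h2 ▸
      Finset.single_le_sum (f := fun g => ‖(χ : G → ℂ) g‖ ^ 2) (fun g _ => sq_nonneg _)
        (Finset.mem_univ 1)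
    rw [(BrauerCharacters.charDegree_spec χ).1, Complex.norm_natCast] at h3
    exact_mod_cast h3
  · intro χ hχ
    obtain ⟨hf, hfpos, -⟩ := BrauerCharacters.charDegree_spec χ
    obtain ⟨m, hm⟩ := BrauerCharacters.exists_nat_sum_subgroup χ d.bigTwo
    rw [d.card_bigTwo] at hm
    simp only [ite_mul, one_mul, zero_mul, ← Finset.sum_filter] at hm
    have hrest : ∀ x ∈ (Finset.univ.filter (· ∈ d.bigTwo)).erase (1 : G),
        (χ : G → ℂ) x = (χ : G → ℂ) d.t := by
      intro x hx
      simp only [Finset.mem_erase, Finset.mem_filter, Finset.mem_univ, true_and] at hx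
      obtain ⟨hx1, p, hp, rfl⟩ := hx
      have hpp : p * p = 1 := Prod.ext
        ((by decide : ∀ s : Multiplicative (ZMod 2), s * s = 1) p.1) hp.2.2
      obtain ⟨g, hg⟩ := isConj_iff.1 (d.isConj_of_phi h2 hpp fun h => hx1 (by rw [h, map_one]))
      rw [← hg, BrauerCharacters.apply_conj_elem]
    have h1mem : (1 : G) ∈ Finset.univ.filter (· ∈ d.bigTwo) := by simp
    rw [← Finset.add_sum_erase _ _ h1mem, Finset.sum_congr rfl hrest, Finset.sum_const,
      Finset.card_erase_of_mem h1mem,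
      show (Finset.univ.filter (· ∈ d.bigTwo)).card = 8 by
        rw [← d.card_bigTwo, Nat.card_eq_fintype_card, Fintype.card_subtype],
      nsmul_eq_mul, hval, hf] at hm
    set T : ℤ := 4 * v 0 χ + 3 * v 1 χ + 3 * v 2 χ - 5 * v 3 χ with hT
    have hm' : (charDegree (χ : G → ℂ) : ℤ) + 7 * T = 8 * m := by
      have : (((charDegree (χ : G → ℂ) : ℤ) + 7 * T : ℤ) : ℂ) = ((8 * m : ℤ) : ℂ) := by
        push_cast; push_cast at hm; linear_combination hm
      exact_mod_cast this
    have hle : T ≤ (charDegree (χ : G → ℂ) : ℤ) := by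
      have h1 := CharTheory.IsCharacter.norm_le (CharTheory.IsIrrCharacter.isCharacter χ.2) d.t
      rw [hval χ, ← hT, hf, Complex.norm_intCast, Complex.natCast_re] at h1
      have : (T : ℝ) ≤ ((charDegree (χ : G → ℂ) : ℤ) : ℝ) := by
        push_cast; exact (le_abs_self _).trans h1
      exact_mod_cast this
    have hne : T ≠ (charDegree (χ : G → ℂ) : ℤ) := by
      intro he
      have hχc := CharTheory.IsIrrCharacter.isCharacter χ.2
      have hker : d.t ∈ Correspondences.charKer hχc := by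
        rw [Correspondences.mem_charKer, hval, ← hT, he, hf]
        simp
      have := Correspondences.charKer_normal hχc
      rcases this.eq_bot_or_eq_top with hb | hb
      · exact d.t_ne_one (Subgroup.mem_bot.1 (hb ▸ hker))
      · have hall : ∀ g, (χ : G → ℂ) g = (χ : G → ℂ) 1 := fun g =>
          (Correspondences.mem_charKer hχc).1 (hb ▸ Subgroup.mem_top g)
        have h0 := CharTheory.classInner_irrCharacter χ (CharTheory.trivIrr G)
        rw [if_neg hχ] at h0
        simp only [classInner, hall, CharTheory.trivIrr_apply, map_one, mul_one, Finset.sum_const,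
          Finset.card_univ, nsmul_eq_mul, ← Nat.card_eq_fintype_card, ← mul_assoc] at h0
        rw [inv_mul_cancel₀ (Nat.cast_ne_zero.2 Nat.card_pos.ne'), one_mul] at h0
        exact CharTheory.apply_one_ne_zero_of_isIrr χ.2 h0
    have h7 : (0 : ℤ) ≤ (m : ℤ) := Int.natCast_nonneg m
    exact ⟨(m : ℤ) - T, by linarith, by omega, by omega⟩
  · intro i
    have hN : (Nat.card G : ℂ) ≠ 0 := Nat.cast_ne_zero.2 Nat.card_pos.ne'
    set w : ℤ := ![0, 10, 10, 6] i with hw
    have hreal : ∀ u : G, conj (indFun d.C (d.alpha i) u) = indFun d.C (d.alpha i) u := by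
      intro u
      simp only [indFun, map_mul, map_inv₀, map_natCast, map_sum]
      congr 1
      refine Finset.sum_congr rfl fun x _ => ?_
      by_cases hx : x⁻¹ * u * x ∈ d.C
      · rw [Frobenius.extendByZero_of_mem _ _ hx, d.conj_alpha]
      · rw [Frobenius.extendByZero_of_not_mem _ _ hx, map_zero]
    have hk := BrauerCharacters.sum_weight_pairs d.t d.t (indFun d.C (d.alpha i))
    have hl : ∑ u : G, indFun d.C (d.alpha i) u * (d.cnt u : ℂ) = (Nat.card G : ℂ) * w := by
      have h1 := Frobenius.classInner_indFun d.C (d.alpha i) (fun u => (d.cnt u : ℂ))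
        (fun u g => by simp only [d.cnt_conj])
      simp only [classInner, map_natCast, hC] at h1
      rw [d.sum_alpha (fun c => (d.cnt (c : G) : ℂ))] at h1
      have h2' : ∀ p : K, alphaK i p * (d.cnt (d.eqv.symm p : d.C) : ℂ) =
          alphaK i p * (pairs p : ℂ) := by
        intro p
        by_cases hp : p ^ 15 = kz
        · rw [← d.phi_eqv (d.eqv.symm p), MulEquiv.apply_symm_apply, d.cnt_eq h2 hp]
        · rw [alphaK_eq_zero_of_pow hp, zero_mul, zero_mul]
      simp only [h2', sum_alphaK_pairs] at h1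
      field_simp at h1
      refine mul_right_cancel₀ (show (120 : ℂ) ≠ 0 by norm_num) ?_
      rw [hw]
      push_cast at h1 ⊢
      linear_combination h1
    have hr : ∀ χ : IrrCharacter G, ∑ u : G, indFun d.C (d.alpha i) u * (χ : G → ℂ) u =
        (Nat.card G : ℂ) * (v i χ : ℂ) := by
      intro χ
      have h1 := CharTheory.classInner_sum_irr (fun φ => (v i φ : ℂ)) χ
      rw [← hv i, classInner] at h1
      have h2 := congrArg conj h1
      simp only [map_mul, map_inv₀, map_natCast, map_sum, Complex.conj_conj, map_intCast, hreal]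
        at h2
      rw [← h2, ← mul_assoc, mul_inv_cancel₀ hN, one_mul]
    have hI : ((Subgroup.centralizer ({d.t} : Set G)).index : ℂ) = (Nat.card G : ℂ) / 120 := by
      rw [← Subgroup.index_mul_card (Subgroup.centralizer ({d.t} : Set G)), hC]
      push_cast
      ring
    have hterm : ∀ χ : IrrCharacter G,
        centralChar (χ : G → ℂ) d.t * conj ((χ : G → ℂ) d.t) *
          ((Nat.card G : ℂ) * (v i χ : ℂ)) =
        (Nat.card G : ℂ) ^ 2 / 120 * ((v i χ : ℂ) *
          ((4 * v 0 χ + 3 * v 1 χ + 3 * v 2 χ - 5 * v 3 χ : ℤ) : ℂ) ^ 2 /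
            (charDegree (χ : G → ℂ) : ℂ)) := by
      intro χ
      rw [centralChar, hI, hval, map_intCast, (BrauerCharacters.charDegree_spec χ).1]
      ring
    have hk' : ∑ u : G, indFun d.C (d.alpha i) u * (d.cnt u : ℂ) =
        ((Subgroup.centralizer ({d.t} : Set G)).index : ℂ) / (Nat.card G : ℂ) *
          ∑ χ : IrrCharacter G, centralChar (χ : G → ℂ) d.t * conj ((χ : G → ℂ) d.t) *
            ∑ u : G, indFun d.C (d.alpha i) u * (χ : G → ℂ) u := by
      refine Eq.trans ?_ hk
      exact Finset.sum_congr rfl fun u _ => by unfold cnt; congr!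
    simp only [hl, hr, hterm, ← Finset.mul_sum, hI] at hk'
    have key : (Nat.card G : ℂ) * ∑ χ : IrrCharacter G, (v i χ : ℂ) *
        ((4 * v 0 χ + 3 * v 1 χ + 3 * v 2 χ - 5 * v 3 χ : ℤ) : ℂ) ^ 2 /
          (charDegree (χ : G → ℂ) : ℂ) = 14400 * (w : ℂ) := by
      field_simp at hk'
      linear_combination -hk'
    have key' : (((Nat.card G : ℚ) * ∑ χ : IrrCharacter G, (v i χ : ℚ) *
        ((4 * v 0 χ + 3 * v 1 χ + 3 * v 2 χ - 5 * v 3 χ : ℤ) : ℚ) ^ 2 /
          (charDegree (χ : G → ℂ) : ℚ) : ℚ) : ℂ) = ((14400 * (w : ℚ) : ℚ) : ℂ) := by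
      push_cast
      push_cast at key
      exact key
    exact_mod_cast key'

end Model

end CfsgLib.JankoOrder
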