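import Cfsg.Prelude.Def_Sporadic
import Cfsg.Prelude.Def_SporadicB
import Cfsg.Agent.Lib.JankoOrder.Model
import Cfsg.Agent.Lib.InvChar.Transfer

/-!
A simple group with a `2`-central involution with centraliser `2 × A₅`: the involutions form one
class, and the involution centraliser is modelled by `2 × A₅`.
-/

set_option autoImplicit false
set_option maxRecDepth 10000
set_option linter.unusedSectionVars false
set_option linter.style.haveILetI false

open Cfsg

namespace CfsgLib.JankoOrder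

universe u

/-- The model of the centraliser. -/
structure Model (G : Type u) [Group G] where
  t : G
  ht : orderOf t = 2
  φ : K →* G
  inj : Function.Injective φ
  range : φ.range = Subgroup.centralizer ({t} : Set G)

variable {G : Type u} [Group G]

/-- The model attached to an isomorphism. -/
def Model.ofEquiv (t : G) (ht : orderOf t = 2)
    (e : Subgroup.centralizer ({t} : Set G) ≃* K) : Model G where
  t := t
  ht := ht
  φ := (Subgroup.centralizer ({t} : Set G)).subtype.comp e.symm.toMonoidHom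
  inj := Subtype.val_injective.comp e.symm.injective
  range := by
    rw [MonoidHom.range_comp, MonoidHom.range_eq_top.2 e.symm.surjective,
      ← MonoidHom.range_eq_map, Subgroup.range_subtype]

variable [Finite G] (d : Model G)

namespace Model

theorem t_sq : d.t * d.t = 1 := by
  rw [← pow_two, ← d.ht, pow_orderOf_eq_one]

theorem t_ne_one : d.t ≠ 1 := fun h => by simpa [h] using d.ht

theorem phi_comm (p : K) : d.φ p * d.t = d.t * d.φ p :=
  Subgroup.mem_centralizer_singleton_iff.1 (d.range ▸ ⟨p, rfl⟩)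

theorem phi_kz : d.φ kz = d.t := by
  obtain ⟨p, hp⟩ : d.t ∈ d.φ.range := by
    rw [d.range]; exact Subgroup.mem_centralizer_singleton_iff.2 rfl
  have key : ∀ p : K, p ≠ 1 → (∀ q, p * q = q * p) → p = kz := by decide +kernel
  rw [← hp, key p (fun h => d.t_ne_one (by rw [← hp, h, map_one])) fun q => d.inj (by
    rw [map_mul, map_mul, hp]; exact (d.phi_comm q).symm)]

theorem exists_phi {x : G} (hx : x * d.t = d.t * x) : ∃ p, d.φ p = x := by
  have : x ∈ d.φ.range := d.range ▸ Subgroup.mem_centralizer_singleton_iff.2 hx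
  exact this

theorem card_centralizer : Nat.card (Subgroup.centralizer ({d.t} : Set G)) = 120 := by
  rw [← d.range, ← Nat.card_congr (MonoidHom.ofInjective d.inj).toEquiv, Nat.card_eq_fintype_card]
  decide +kernel

include d in
theorem dvd_card : 120 ∣ Nat.card G := d.card_centralizer ▸ Subgroup.card_subgroup_dvd_card _

theorem not_sixteen_dvd (h2 : IsTwoCentralInvolution d.t) : ¬ 16 ∣ Nat.card G := by
  obtain ⟨-, P, -, hP⟩ := h2
  intro h
  have h16 : 2 ^ 4 ∣ Nat.card (P : Subgroup G) := P.pow_dvd_card_of_pow_dvd_card h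
  have hle : (P : Subgroup G) ≤ Subgroup.centralizer ({d.t} : Set G) := fun x hx =>
    Subgroup.mem_centralizer_singleton_iff.2 (hP x hx)
  exact absurd (d.card_centralizer ▸ h16.trans (Subgroup.card_dvd_of_le hle)) (by norm_num)

/-- A double transposition. -/
def dbl : A5 :=
  ⟨Equiv.swap 0 1 * Equiv.swap 2 3, Equiv.Perm.mem_alternatingGroup.2 (by decide)⟩

/-- A subgroup of `A₅` of order four. -/
def fourA : Subgroup A5 where
  carrier := {x | ((x : Equiv.Perm (Fin 5)) 4 = 4) ∧ x * x = 1}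
  one_mem' := by simp
  mul_mem' := by
    intro a b
    revert a b
    decide +kernel
  inv_mem' := by
    intro a
    revert a
    decide +kernel

/-- The Klein four subgroup as an image in `G`. -/
def smallTwo : Subgroup G := fourA.map (d.φ.comp (MonoidHom.inr (Multiplicative (ZMod 2)) A5))

/-- A Sylow `2`-subgroup as an image in `G`. -/
def bigTwo : Subgroup G := ((⊤ : Subgroup (Multiplicative (ZMod 2))).prod fourA).map d.φ

theorem card_smallTwo : Nat.card d.smallTwo = 4 := by
  have hi : Function.Injective (d.φ.comp (MonoidHom.inr (Multiplicative (ZMod 2)) A5)) :=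
    d.inj.comp fun a b h => congrArg Prod.snd h
  rw [smallTwo, Subgroup.card_map_of_injective hi,
    show Nat.card fourA = Nat.card {x : A5 // ((x : Equiv.Perm (Fin 5)) 4 = 4) ∧ x * x = 1} from rfl,
    Nat.card_eq_fintype_card]
  decide +kernel

theorem card_bigTwo : Nat.card d.bigTwo = 8 := by
  rw [bigTwo, Subgroup.card_map_of_injective d.inj,
    Nat.card_congr (Subgroup.prodEquiv _ _).toEquiv, Nat.card_prod,
    show Nat.card fourA = Nat.card {x : A5 // ((x : Equiv.Perm (Fin 5)) 4 = 4) ∧ x * x = 1} from rfl,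
    Subgroup.card_top, Nat.card_eq_fintype_card, Nat.card_eq_fintype_card]
  decide +kernel

variable (h2 : IsTwoCentralInvolution d.t) [IsSimpleGroup G]
include h2

theorem not_index_two (H : Subgroup G) [H.Normal] : H.index ≠ 2 := by
  intro h
  rcases ‹H.Normal›.eq_bot_or_eq_top with hb | hb
  · have := Subgroup.card_subgroup_dvd_card (Subgroup.centralizer ({d.t} : Set G))
    rw [d.card_centralizer, ← Subgroup.index_bot, ← hb, h] at this
    norm_num at this
  · rw [hb, Subgroup.index_top] at h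
    norm_num at h

/-- The Sylow `2`-subgroup. -/
theorem exists_sylow : ∃ S : Sylow 2 G, (S : Subgroup G) = d.bigTwo := by
  refine ⟨Sylow.ofCard d.bigTwo ?_, rfl⟩
  rw [d.card_bigTwo]
  have h8 : 2 ^ 3 ∣ Nat.card G := (show 2 ^ 3 ∣ 120 by norm_num).trans d.dvd_card
  have hle : 3 ≤ (Nat.card G).factorization 2 :=
    (Nat.prime_two.pow_dvd_iff_le_factorization Nat.card_pos.ne').1 h8
  have hlt : ¬ 4 ≤ (Nat.card G).factorization 2 := fun h =>
    d.not_sixteen_dvd h2 ((Nat.prime_two.pow_dvd_iff_le_factorization Nat.card_pos.ne').2 h)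
  rw [show (Nat.card G).factorization 2 = 3 by omega]
  rfl

theorem isConj_of_phi {p : K} (hp : p * p = 1) (hp1 : p ≠ 1) : IsConj d.t (d.φ p) := by
  obtain ⟨S, hS⟩ := d.exists_sylow h2
  have hMS : d.smallTwo ≤ d.bigTwo := by
    rintro x ⟨a, ha, rfl⟩
    exact ⟨(1, a), ⟨Subgroup.mem_top _, ha⟩, rfl⟩
  have hM : d.smallTwo.relIndex (S : Subgroup G) = 2 := by
    rw [hS]
    have h4 : Nat.card (d.smallTwo.subgroupOf d.bigTwo) = 4 := by
      rw [Nat.card_congr (Subgroup.subgroupOfEquivOfLe hMS).toEquiv, d.card_smallTwo]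
    have h := Subgroup.card_mul_index (d.smallTwo.subgroupOf d.bigTwo)
    rw [h4, d.card_bigTwo] at h
    show (d.smallTwo.subgroupOf d.bigTwo).index = 2
    omega
  have hout : ∀ q : K, q.1 ≠ 1 → d.φ q ∉ d.smallTwo := by
    rintro q hq ⟨a, -, ha⟩
    exact hq (congrArg Prod.fst (d.inj ha)).symm
  have step : ∀ q : K, q ∈ (⊤ : Subgroup (Multiplicative (ZMod 2))).prod fourA → q.1 ≠ 1 →
      ∃ a : A5, a * a = 1 ∧ a ≠ 1 ∧ IsConj (d.φ q) (d.φ (1, a)) := by
    intro q hq hq1
    have hqq : q * q = 1 := Prod.ext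
      ((by decide : ∀ s : Multiplicative (ZMod 2), s * s = 1) q.1) hq.2.2
    have hqne : d.φ q ≠ 1 := fun h => hq1 (by
      rw [d.inj (h.trans (map_one d.φ).symm)]; rfl)
    by_contra hcon
    push Not at hcon
    obtain ⟨H, hHn, hH, -⟩ := InvChar.exists_index_two_not_mem S d.smallTwo hM 1 le_rfl
      (fun y _ hy => by
        simp only [Nat.sub_self, pow_zero]
        exact Nat.one_lt_iff_ne_zero_and_ne_one.2
          ⟨(orderOf_pos y).ne', fun h => hy (orderOf_eq_one_iff.1 h ▸ one_mem _)⟩)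
      (d.φ q) (hS ▸ ⟨q, hq, rfl⟩)
      (by rw [pow_one]; exact orderOf_eq_prime (by rw [pow_two, ← map_mul, hqq, map_one]) hqne)
      (fun g hg => by
        obtain ⟨a, ha, hga⟩ := hg
        refine hcon a ha.2 (fun h => hqne ?_) (isConj_iff.2 ⟨g, hga.symm⟩)
        have h1 : g * d.φ q * g⁻¹ = 1 := by rw [← hga, h, map_one]
        exact mul_left_cancel (a := g) (by rw [mul_one]; exact mul_inv_eq_one.1 h1))
    exact d.not_index_two h2 H hH
  have hA : ∀ a b : A5, a * a = 1 → a ≠ 1 → b * b = 1 → b ≠ 1 → IsConj a b := by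
    have hall : ∀ a : A5, a * a = 1 → a ≠ 1 → ∃ h : A5, h * a * h⁻¹ = dbl := by decide +kernel
    intro a b ha ha1 hb hb1
    obtain ⟨h, hc⟩ := hall a ha ha1
    obtain ⟨h', hc'⟩ := hall b hb hb1
    exact (isConj_iff.2 ⟨h, hc⟩).trans (isConj_iff.2 ⟨h', hc'⟩).symm
  have hlift : ∀ (s : Multiplicative (ZMod 2)) (a b : A5), IsConj a b →
      IsConj (d.φ (s, a)) (d.φ (s, b)) := fun s a b h => by
    obtain ⟨g, hg⟩ := isConj_iff.1 h
    refine MonoidHom.map_isConj d.φ (isConj_iff.2 ⟨(1, g), ?_⟩)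
    exact Prod.ext (by simp) hg
  obtain ⟨a0, ha0, ha01, hta0⟩ := step kz ⟨Subgroup.mem_top _, one_mem _⟩ (by decide)
  rw [d.phi_kz] at hta0
  obtain ⟨s, a⟩ := p
  rcases (show ∀ s : Multiplicative (ZMod 2), s = 1 ∨ s = Multiplicative.ofAdd 1 by decide) s with
    rfl | rfl
  · exact hta0.trans (hlift 1 a0 a (hA a0 a ha0 ha01 (congrArg Prod.snd hp) fun h => hp1 (by rw [h]; rfl)))
  · by_cases ha : a = 1
    · subst ha; rw [show ((Multiplicative.ofAdd 1, 1) : K) = kz from rfl, d.phi_kz]
    · obtain ⟨b0, hb0, hb01⟩ : ∃ b : A5, b ∈ fourA ∧ b ≠ 1 :=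
        ⟨dbl, ⟨by decide +kernel, by decide +kernel⟩, by decide +kernel⟩
      obtain ⟨c, hc, hc1, hbc⟩ := step (Multiplicative.ofAdd 1, b0) ⟨Subgroup.mem_top _, hb0⟩
        (by show Multiplicative.ofAdd (1 : ZMod 2) ≠ 1; decide)
      exact ((hta0.trans (hlift 1 a0 c (hA a0 c ha0 ha01 hc hc1))).trans hbc.symm).trans
        (hlift _ b0 a (hA b0 a hb0.2 hb01 (congrArg Prod.snd hp) ha))

/-- All involutions are conjugate. -/
theorem isConj_t {x : G} (hx : orderOf x = 2) : IsConj d.t x := by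
  haveI : Fact (Nat.Prime 2) := ⟨Nat.prime_two⟩
  obtain ⟨S, hS⟩ := d.exists_sylow h2
  have hz : IsPGroup 2 (Subgroup.zpowers x) :=
    IsPGroup.of_card (n := 1) (by rw [Nat.card_zpowers, hx, pow_one])
  obtain ⟨T, hT⟩ := hz.exists_le_sylow
  obtain ⟨g, hg⟩ := MulAction.exists_smul_eq G T S
  have hgx : g * x * g⁻¹ ∈ (S : Subgroup G) := by
    rw [← hg, Sylow.coe_subgroup_smul]
    exact ⟨x, hT (Subgroup.mem_zpowers x), rfl⟩
  rw [hS] at hgx
  obtain ⟨p, -, hp⟩ := hgx
  have hxx : x * x = 1 := by rw [← pow_two, ← hx, pow_orderOf_eq_one]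
  have hx1 : x ≠ 1 := fun h => by simp [h] at hx
  refine (d.isConj_of_phi h2 (d.inj ?_) ?_).trans (isConj_iff.2 ⟨g⁻¹, by rw [hp]; group⟩)
  · rw [map_mul, hp, map_one,
      show g * x * g⁻¹ * (g * x * g⁻¹) = g * (x * x) * g⁻¹ by group, hxx]
    group
  · intro h
    rw [h, map_one] at hp
    exact hx1 (by rw [show x = g⁻¹ * (g * x * g⁻¹) * g by group, ← hp]; group)

end Model

end CfsgLib.JankoOrder
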